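import Mathlib

/-!
# Elementary abelian 2-subgroups

Adjoining a commuting involution to an elementary abelian 2-subgroup, three commuting independent involutions.
-/

set_option autoImplicit false

namespace Cfsg.Agent.H269.K547

universe u

variable {Y : Type u} [Group Y]

/-- adjoin a commuting involution -/
def adj (H : Subgroup Y) (z : Y) (hz : z * z = 1) (hc : ∀ h ∈ H, h * z = z * h) : Subgroup Y where
  carrier := {y | y ∈ H ∨ y * z ∈ H}
  one_mem' := Or.inl H.one_mem
  mul_mem' := by
    rintro a b (ha | ha) (hb | hb)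
    · exact Or.inl (H.mul_mem ha hb)
    · right
      rw [mul_assoc]
      exact H.mul_mem ha hb
    · right
      have h1 : a * b * z = (a * z) * b := by
        rw [mul_assoc, hc b hb, mul_assoc]
      rw [h1]
      exact H.mul_mem ha hb
    · left
      have h1 : a * b = (a * z) * (b * z) := by
        have h2 := hc _ hb
        have h3 : b = z * (b * z) := by
          rw [← h2, mul_assoc, hz, mul_one]
        calc a * b = a * (z * (b * z)) := by rw [← h3]
          _ = _ := by rw [mul_assoc]
      rw [h1]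
      exact H.mul_mem ha hb
  inv_mem' := by
    rintro a (ha | ha)
    · exact Or.inl (H.inv_mem ha)
    · right
      have h1 : z⁻¹ = z := inv_eq_of_mul_eq_one_left hz
      have h2 := H.inv_mem ha
      rw [mul_inv_rev, h1] at h2
      have h3 := hc _ h2
      have h4 : a⁻¹ = z * (z * a⁻¹) := by rw [← mul_assoc, hz, one_mul]
      have h5 : a⁻¹ * z = z * a⁻¹ := by
        calc a⁻¹ * z = z * (z * a⁻¹) * z := by rw [← h4]
          _ = z * ((z * a⁻¹) * z) := by rw [mul_assoc]
          _ = z * (z * (z * a⁻¹)) := by rw [h3]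
          _ = z * a⁻¹ := by rw [← h4]
      rw [h5]
      exact h2

theorem mem_adj {H : Subgroup Y} {z : Y} {hz : z * z = 1} {hc : ∀ h ∈ H, h * z = z * h} {y : Y} :
    y ∈ adj H z hz hc ↔ y ∈ H ∨ y * z ∈ H := Iff.rfl

theorem le_adj (H : Subgroup Y) (z : Y) (hz : z * z = 1) (hc : ∀ h ∈ H, h * z = z * h) : H ≤ adj H z hz hc :=
  fun _ h => Or.inl h

theorem card_adj (H : Subgroup Y) (z : Y) (hz : z * z = 1) (hc : ∀ h ∈ H, h * z = z * h) (hzH : z ∉ H) :
    Nat.card (adj H z hz hc) = 2 * Nat.card H := by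
  have h1 : (H.subgroupOf (adj H z hz hc)).index = 2 := by
    rw [Subgroup.index_eq_two_iff]
    refine ⟨⟨z, Or.inr (by rw [hz]; exact H.one_mem)⟩, ?_⟩
    rintro ⟨b, hb⟩
    rw [Subgroup.mem_subgroupOf, Subgroup.mem_subgroupOf]
    change Xor (b * z ∈ H) (b ∈ H)
    rcases hb with hb | hb
    · refine Or.inr ⟨hb, fun h => hzH ?_⟩
      have := H.mul_mem (H.inv_mem hb) h
      rwa [inv_mul_cancel_left] at this
    · refine Or.inl ⟨hb, fun h => hzH ?_⟩
      have := H.mul_mem (H.inv_mem h) hb
      rwa [inv_mul_cancel_left] at this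
  have h2 := Subgroup.card_mul_index (H.subgroupOf (adj H z hz hc))
  rw [h1, Nat.card_congr (Subgroup.subgroupOfEquivOfLe (le_adj H z hz hc)).toEquiv] at h2
  rw [← h2, mul_comm]

theorem sq_adj (H : Subgroup Y) (z : Y) (hz : z * z = 1) (hc : ∀ h ∈ H, h * z = z * h) (hH : ∀ h ∈ H, h * h = 1) :
    ∀ h ∈ adj H z hz hc, h * h = 1 := by
  rintro h (hh | hh)
  · exact hH h hh
  · have h1 := hH _ hh
    have h2 := hc _ hh
    have h3 : h = z * (h * z) := by
      rw [← h2, mul_assoc, hz, mul_one]
    have h4 : h * h = (h * z) * (h * z) := by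
      calc h * h = h * (z * (h * z)) := by rw [← h3]
        _ = _ := by rw [mul_assoc]
    rw [h4, h1]

/-- three commuting independent involutions generate an elementary abelian group of order 8 -/
theorem exists_elem {x y z : Y} (hx : x * x = 1) (hy : y * y = 1) (hz : z * z = 1) (hxy : x * y = y * x)
    (hxz : x * z = z * x) (hyz : y * z = z * y) (hx1 : x ≠ 1) (hy1 : y ≠ 1) (hyx : y * x ≠ 1) (hz1 : z ≠ 1)
    (hzx : z * x ≠ 1) (hzy : z * y ≠ 1) (hzyx : z * y * x ≠ 1) :
    ∃ E : Subgroup Y, Nat.card E = 8 ∧ ∀ e ∈ E, e * e = 1 := by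
  let K1 := adj (⊥ : Subgroup Y) x hx (fun h hh => by rw [Subgroup.mem_bot.1 hh]; simp)
  have hm1 : ∀ {h : Y}, h ∈ K1 ↔ h = 1 ∨ h * x = 1 := by
    intro h
    rw [mem_adj, Subgroup.mem_bot, Subgroup.mem_bot]
  have hix : x⁻¹ = x := inv_eq_of_mul_eq_one_left hx
  have hm1' : ∀ {h : Y}, h ∈ K1 → h = 1 ∨ h = x := by
    intro h hh
    rcases hm1.1 hh with h1 | h1
    · exact Or.inl h1
    · right
      rw [← hix]
      exact eq_inv_of_mul_eq_one_left h1
  let K2 := adj K1 y hy (fun h hh => by
    rcases hm1' hh with h1 | h1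
    · rw [h1]; simp
    · rw [h1, hxy])
  have hm2 : ∀ {h : Y}, h ∈ K2 ↔ (h = 1 ∨ h * x = 1) ∨ (h * y = 1 ∨ h * y * x = 1) := by
    intro h
    rw [mem_adj, hm1, hm1]
  have hiy : y⁻¹ = y := inv_eq_of_mul_eq_one_left hy
  let K3 := adj K2 z hz (fun h hh => by
    rcases hh with h1 | h1
    · rcases hm1' h1 with h1 | h1
      · rw [h1]; simp
      · rw [h1, hxz]
    · have h2 : h * y = 1 ∨ h * y = x := hm1' h1
      have h3 : h = 1 * y ∨ h = x * y := by
        rcases h2 with h2 | h2
        · left
          rw [← h2, mul_assoc, hy, mul_one]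
        · right
          rw [← h2, mul_assoc, hy, mul_one]
      rcases h3 with h3 | h3
      · rw [h3, one_mul, hyz]
      · rw [h3, mul_assoc, hyz, ← mul_assoc, hxz, mul_assoc])
  have c1 : Nat.card K1 = 2 := by
    have := card_adj (⊥ : Subgroup Y) x hx (fun h hh => by rw [Subgroup.mem_bot.1 hh]; simp)
      (fun h => hx1 (Subgroup.mem_bot.1 h))
    rw [Subgroup.card_bot] at this
    simpa using this
  have c2 : Nat.card K2 = 4 := by
    have := card_adj K1 y hy (fun h hh => by
      rcases hm1' hh with h1 | h1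
      · rw [h1]; simp
      · rw [h1, hxy]) (fun h => by
        rcases hm1.1 h with h | h
        · exact hy1 h
        · exact hyx h)
    rw [c1] at this
    simpa using this
  have c3 : Nat.card K3 = 8 := by
    have := card_adj K2 z hz (fun h hh => by
      rcases hh with h1 | h1
      · rcases hm1' h1 with h1 | h1
        · rw [h1]; simp
        · rw [h1, hxz]
      · have h2 : h * y = 1 ∨ h * y = x := hm1' h1
        have h3 : h = 1 * y ∨ h = x * y := by
          rcases h2 with h2 | h2
          · left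
            rw [← h2, mul_assoc, hy, mul_one]
          · right
            rw [← h2, mul_assoc, hy, mul_one]
        rcases h3 with h3 | h3
        · rw [h3, one_mul, hyz]
        · rw [h3, mul_assoc, hyz, ← mul_assoc, hxz, mul_assoc]) (fun h => by
        rcases hm2.1 h with (h | h) | (h | h)
        · exact hz1 h
        · exact hzx h
        · exact hzy h
        · exact hzyx h)
    rw [c2] at this
    simpa using this
  exact ⟨K3, c3, sq_adj _ _ _ _ (sq_adj _ _ _ _ (sq_adj _ _ _ _ (fun h hh => by
    rw [Subgroup.mem_bot.1 hh, one_mul])))⟩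

end Cfsg.Agent.H269.K547
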