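import Cfsg.Prelude.Def_Classical
import Cfsg.Agent.LieClassical.SympCenter
import Cfsg.Agent.H269.K547.Elem

/-!
# An elementary abelian subgroup of order 8 in `PSp_2m(F)`, `m ≥ 2`, odd characteristic
-/

set_option autoImplicit false

open Cfsg Matrix

namespace Cfsg.Agent.H269.K547

universe u

variable {F : Type u} [Field F] {m : ℕ}

/-- the block matrix with scalar blocks `a, b, b, -a` -/
def jmat (m : ℕ) (a b : F) : Matrix (Fin m ⊕ Fin m) (Fin m ⊕ Fin m) F :=
  fromBlocks (a • 1) (b • 1) (b • 1) (-(a • 1))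

theorem jmat_mul (a b : F) (h : a * a + b * b = -1) : jmat m a b * jmat m a b = -1 := by
  unfold jmat
  rw [fromBlocks_multiply]
  have e1 : (-1 : Matrix (Fin m ⊕ Fin m) (Fin m ⊕ Fin m) F) = fromBlocks (-1) 0 0 (-1) := by
    rw [← fromBlocks_one, fromBlocks_neg, neg_zero]
  rw [e1]
  congr 1
  · simp only [smul_mul_smul, mul_one]
    rw [← add_smul, h, neg_smul, one_smul]
  · simp only [smul_mul_smul, mul_one, mul_neg]
    rw [← sub_eq_add_neg, ← sub_smul, mul_comm a b, sub_self, zero_smul]
  · simp only [smul_mul_smul, mul_one, neg_mul]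
    rw [← sub_eq_add_neg, ← sub_smul, mul_comm a b, sub_self, zero_smul]
  · simp only [smul_mul_smul, mul_one, neg_mul, mul_neg, neg_neg]
    rw [← add_smul, add_comm (b * b), h, neg_smul, one_smul]

theorem jmat_J (a b : F) : jmat m a b * J (Fin m) F = jmat m b (-a) := by
  unfold jmat J
  rw [fromBlocks_multiply]
  simp

theorem J_jmat (a b : F) : J (Fin m) F * jmat m a b = fromBlocks (-(b • 1)) (a • 1) (a • 1) (b • 1) := by
  unfold jmat J
  rw [fromBlocks_multiply]
  simp

theorem jmat_transpose (a b : F) : (jmat m a b)ᵀ = jmat m a b := by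
  unfold jmat
  rw [fromBlocks_transpose]
  simp

theorem jmat_anti (a b : F) : J (Fin m) F * jmat m a b = -(jmat m a b * J (Fin m) F) := by
  rw [jmat_J, J_jmat, jmat, fromBlocks_neg]
  simp

theorem jmat_mem (a b : F) (h : a * a + b * b = -1) : jmat m a b ∈ symplecticGroup (Fin m) F := by
  rw [SymplecticGroup.mem_iff, jmat_transpose]
  have h1 : jmat m a b * J (Fin m) F = -(J (Fin m) F * jmat m a b) := by rw [jmat_anti, neg_neg]
  rw [h1, neg_mul, mul_assoc, jmat_mul a b h]
  simp

/-- the diagonal matrix `diag(-1, 1, ..., 1)` in both blocks -/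
def dvec (F : Type u) [Field F] (m : ℕ) : Fin m → F := fun k => if (k : ℕ) = 0 then -1 else 1

def zmat (F : Type u) [Field F] (m : ℕ) : Matrix (Fin m ⊕ Fin m) (Fin m ⊕ Fin m) F :=
  fromBlocks (diagonal (dvec F m)) 0 0 (diagonal (dvec F m))

theorem dvec_mul (k : Fin m) : dvec F m k * dvec F m k = 1 := by
  unfold dvec
  split_ifs <;> simp

theorem diag_mul : diagonal (dvec F m) * diagonal (dvec F m) = 1 := by
  rw [diagonal_mul_diagonal]
  simp only [dvec_mul]
  exact diagonal_one

theorem zmat_mul : zmat F m * zmat F m = 1 := by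
  unfold zmat
  rw [fromBlocks_multiply, diag_mul]
  simp only [mul_zero, zero_mul, add_zero, zero_add]
  exact fromBlocks_one

theorem zmat_J : zmat F m * J (Fin m) F = J (Fin m) F * zmat F m := by
  unfold zmat J
  rw [fromBlocks_multiply, fromBlocks_multiply]
  simp

theorem zmat_jmat (a b : F) : zmat F m * jmat m a b = jmat m a b * zmat F m := by
  unfold zmat jmat
  rw [fromBlocks_multiply, fromBlocks_multiply]
  simp

theorem zmat_transpose : (zmat F m)ᵀ = zmat F m := by
  unfold zmat
  rw [fromBlocks_transpose]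
  simp

theorem zmat_mem : zmat F m ∈ symplecticGroup (Fin m) F := by
  rw [SymplecticGroup.mem_iff, zmat_transpose, zmat_J, mul_assoc, zmat_mul, mul_one]

/-- a scalar matrix has equal diagonal blocks and zero off-diagonal blocks -/
theorem blocks_of_scalar {A B C D : Matrix (Fin m) (Fin m) F} {c : F}
    (h : fromBlocks A B C D = c • (1 : Matrix (Fin m ⊕ Fin m) (Fin m ⊕ Fin m) F)) :
    A = c • 1 ∧ B = 0 ∧ C = 0 ∧ D = c • 1 := by
  rw [← fromBlocks_one, fromBlocks_smul, fromBlocks_inj, smul_zero] at h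
  exact h

theorem smul_one_eq_zero (hm : 1 ≤ m) {a : F} (h : a • (1 : Matrix (Fin m) (Fin m) F) = 0) : a = 0 := by
  have := congrFun (congrFun h ⟨0, hm⟩) ⟨0, hm⟩
  simpa using this

theorem smul_diag_eq_zero {a : F} (hm : 1 ≤ m) (h : a • diagonal (dvec F m) = 0) : a = 0 := by
  have h1 : a • (1 : Matrix (Fin m) (Fin m) F) = 0 := by
    rw [← diag_mul, ← smul_mul_assoc, h, zero_mul]
  exact smul_one_eq_zero hm h1

theorem no_ab {a b : F} (h : a * a + b * b = -1) (ha : a = 0) (hb : b = 0) : False := by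
  rw [ha, hb] at h
  simp at h

section Elts

variable (h2 : (2 : F) ≠ 0) (hm : 2 ≤ m)

theorem two_zero (h2 : (2 : F) ≠ 0) {a : F} (h : a = -a) : a = 0 := by
  have : (2 : F) * a = 0 := by linear_combination h
  exact (mul_eq_zero.1 this).resolve_left h2

include hm in
theorem J_not_scalar (c : F) : J (Fin m) F ≠ c • 1 := by
  intro h
  unfold J at h
  obtain ⟨-, -, h3, -⟩ := blocks_of_scalar h
  have := smul_one_eq_zero (F := F) (m := m) (by omega) (a := 1) (by rw [one_smul]; exact h3)
  exact one_ne_zero this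

include h2 hm in
theorem scal_not_scalar {a b : F} (hab : ¬ (a = 0 ∧ b = 0)) (c : F) :
    jmat m a b ≠ c • 1 := by
  intro h
  unfold jmat at h
  obtain ⟨h1, h2', -, h4⟩ := blocks_of_scalar h
  refine hab ⟨?_, smul_one_eq_zero (by omega) h2'⟩
  have h5 : (a - (-a)) • (1 : Matrix (Fin m) (Fin m) F) = 0 := by
    rw [sub_smul, neg_smul, sub_eq_zero]
    exact h1.trans h4.symm
  have h6 := smul_one_eq_zero (F := F) (m := m) (by omega) h5
  exact two_zero h2 (sub_eq_zero.1 h6)

include h2 hm in
theorem dscal_not_scalar {a b : F} (hab : ¬ (a = 0 ∧ b = 0)) (c : F) :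
    zmat F m * jmat m a b ≠ c • 1 := by
  intro h
  have h0 : zmat F m * jmat m a b = fromBlocks (a • diagonal (dvec F m)) (b • diagonal (dvec F m))
      (b • diagonal (dvec F m)) (-(a • diagonal (dvec F m))) := by
    unfold zmat jmat
    rw [fromBlocks_multiply]
    simp
  rw [h0] at h
  obtain ⟨h1, h2', -, h4⟩ := blocks_of_scalar h
  refine hab ⟨?_, smul_diag_eq_zero (by omega) h2'⟩
  have h5 : (a - (-a)) • diagonal (dvec F m) = 0 := by
    rw [sub_smul, neg_smul, sub_eq_zero]
    exact h1.trans h4.symm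
  have h6 := smul_diag_eq_zero (F := F) (m := m) (by omega) h5
  exact two_zero h2 (sub_eq_zero.1 h6)

include h2 hm in
theorem zmat_not_scalar (c : F) : zmat F m ≠ c • 1 := by
  intro h
  unfold zmat at h
  obtain ⟨h1, -, -, -⟩ := blocks_of_scalar h
  have e0 := congrFun (congrFun h1 ⟨0, by omega⟩) ⟨0, by omega⟩
  have e1 := congrFun (congrFun h1 ⟨1, by omega⟩) ⟨1, by omega⟩
  simp [dvec] at e0 e1
  have : (1 : F) = -1 := by rw [e0, ← e1]
  exact one_ne_zero (two_zero h2 this)

include hm in
theorem zJ_not_scalar (c : F) : zmat F m * J (Fin m) F ≠ c • 1 := by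
  intro h
  unfold zmat J at h
  rw [fromBlocks_multiply] at h
  obtain ⟨-, -, h3, -⟩ := blocks_of_scalar h
  have h4 : (1 : F) • diagonal (dvec F m) = 0 := by
    rw [one_smul, ← h3]
    simp
  exact one_ne_zero (smul_diag_eq_zero (by omega) h4)

end Elts

/-- `PSp_2m(F)` contains an elementary abelian subgroup of order 8, if `-1` is a sum of two squares -/
theorem psp_elem (h2 : (2 : F) ≠ 0) (hm : 2 ≤ m) {a b : F} (hab : a * a + b * b = -1) :
    ∃ E : Subgroup (PSp m F), Nat.card E = 8 ∧ ∀ e ∈ E, e * e = 1 := by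
  let x : symplecticGroup (Fin m) F := ⟨J (Fin m) F, SymplecticGroup.J_mem _ _⟩
  let y : symplecticGroup (Fin m) F := ⟨jmat m a b, jmat_mem a b hab⟩
  let z : symplecticGroup (Fin m) F := ⟨zmat F m, zmat_mem⟩
  have hab' : ¬ (a = 0 ∧ b = 0) := fun h => no_ab hab h.1 h.2
  let π : symplecticGroup (Fin m) F →* PSp m F := QuotientGroup.mk' _
  have hπ : ∀ g : symplecticGroup (Fin m) F, π g = 1 ↔ ∃ c : F, g.1 = c • 1 := by
    intro g
    rw [← LieClassical.SympCenter.mem_center_iff]
    exact QuotientGroup.eq_one_iff g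
  have hneg : ∀ g : symplecticGroup (Fin m) F, g.1 = -1 → π g = 1 := by
    intro g hg
    exact (hπ g).2 ⟨-1, by rw [hg, neg_smul, one_smul]⟩
  have hxx : π x * π x = 1 := by
    rw [← map_mul]
    apply hneg
    change J (Fin m) F * J (Fin m) F = -1
    exact J_squared _ _
  have hyy : π y * π y = 1 := by
    rw [← map_mul]
    apply hneg
    exact jmat_mul a b hab
  have hzz : π z * π z = 1 := by
    rw [← map_mul]
    have : z * z = 1 := Subtype.ext zmat_mul
    rw [this, map_one]
  let w : symplecticGroup (Fin m) F := ⟨-1, by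
    rw [SymplecticGroup.mem_iff]
    simp⟩
  have hw : π w = 1 := hneg w rfl
  have hxy : π x * π y = π y * π x := by
    have h1 : x * y = w * (y * x) := by
      apply Subtype.ext
      change J (Fin m) F * jmat m a b = -1 * (jmat m a b * J (Fin m) F)
      rw [jmat_anti]
      simp
    rw [← map_mul, ← map_mul, h1, map_mul, hw, one_mul]
  have hxz : π x * π z = π z * π x := by
    rw [← map_mul, ← map_mul]
    congr 1
    exact Subtype.ext zmat_J.symm
  have hyz : π y * π z = π z * π y := by
    rw [← map_mul, ← map_mul]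
    congr 1
    exact Subtype.ext (zmat_jmat a b).symm
  have hab'' : ¬ (b = 0 ∧ -a = 0) := fun h => no_ab hab (neg_eq_zero.1 h.2) h.1
  have hns : ∀ g : symplecticGroup (Fin m) F, (∀ c : F, g.1 ≠ c • 1) → π g ≠ 1 := by
    intro g hg h
    obtain ⟨c, hc⟩ := (hπ g).1 h
    exact hg c hc
  refine exists_elem hxx hyy hzz hxy hxz hyz ?_ ?_ ?_ ?_ ?_ ?_ ?_
  · exact hns x (J_not_scalar hm)
  · exact hns y (scal_not_scalar h2 hm hab')
  · rw [← map_mul]
    refine hns _ (fun c => ?_)
    change jmat m a b * J (Fin m) F ≠ _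
    rw [jmat_J]
    exact scal_not_scalar h2 hm hab'' c
  · exact hns z (zmat_not_scalar h2 hm)
  · rw [← map_mul]
    exact hns _ (zJ_not_scalar hm)
  · rw [← map_mul]
    exact hns _ (dscal_not_scalar h2 hm hab')
  · rw [← map_mul, ← map_mul]
    refine hns _ (fun c => ?_)
    change zmat F m * jmat m a b * J (Fin m) F ≠ _
    rw [mul_assoc, jmat_J]
    exact dscal_not_scalar h2 hm hab'' c

/-- the version for finite fields of odd order -/
theorem psp_elem_of_odd [Fintype F] (hF : Odd (Fintype.card F)) (hm : 2 ≤ m) :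
    ∃ E : Subgroup (PSp m F), Nat.card E = 8 ∧ ∀ e ∈ E, e * e = 1 := by
  obtain ⟨a, b, hab⟩ := FiniteField.exists_root_sum_quadratic (R := F) (f := Polynomial.X ^ 2) (g := Polynomial.X ^ 2 + 1)
    (by simp) (by compute_degree!) (by rw [Nat.odd_iff] at hF; exact hF)
  have h1 : a * a + b * b = -1 := by
    simp at hab
    linear_combination hab
  have h2 : (2 : F) ≠ 0 := by
    intro h
    have : ringChar F ≠ 2 := by
      intro hc
      have := FiniteField.even_card_iff_char_two.1 hc
      rw [Nat.odd_iff] at hF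
      omega
    exact (Ring.two_ne_zero this) h
  exact psp_elem h2 hm h1

end Cfsg.Agent.H269.K547
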