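import Cfsg.Agent.H821.K547.Defs
import Cfsg.Agent.S0113
import Cfsg.Agent.S0115
import Cfsg.Agent.Lib.FrattiniBasic

/-!
# Three generators from an elementary abelian subgroup of order 8

If `P` is a 2-group with `P/P'` elementary abelian and `P` has an elementary abelian subgroup of order 8, then `P` is
not of maximal class, so `P` needs three generators.
-/

set_option autoImplicit false

namespace Cfsg.Agent.H269.K547

open Cfsg Cfsg.Agent.H821.K547

universe u v

/-- a finite group of exponent 2 and order at least 8 maps onto `C_2^3` -/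
theorem rk_of_exp {A : Type u} [CommGroup A] [Finite A] (h2 : ∀ x : A, x ^ 2 = 1) {n : ℕ} (hc : 2 ^ n ≤ Nat.card A) :
    Rk n A := by
  have h2' : ∀ x : Additive A, 2 • x = 0 := fun x => h2 x.toMul
  let _ : Module (ZMod 2) (Additive A) := AddCommGroup.zmodModule h2'
  have : Fact (Nat.Prime 2) := ⟨Nat.prime_two⟩
  have : Finite (Additive A) := ‹Finite A›
  have hr : n ≤ Module.finrank (ZMod 2) (Additive A) := by
    have h1 := Module.natCard_eq_pow_finrank (K := ZMod 2) (V := Additive A)
    have h3 : Nat.card (Additive A) = Nat.card A := rfl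
    rw [h3, Nat.card_zmod] at h1
    rw [h1] at hc
    exact (Nat.pow_le_pow_iff_right (by norm_num)).1 hc
  let b := Module.finBasis (ZMod 2) (Additive A)
  let g : Additive A →ₗ[ZMod 2] (Fin n → ZMod 2) :=
    (LinearMap.funLeft (ZMod 2) (ZMod 2) (Fin.castLE hr)).comp b.equivFun.toLinearMap
  have hg : Function.Surjective g :=
    (LinearMap.funLeft_surjective_of_injective (ZMod 2) (ZMod 2) _ (Fin.castLE_injective hr)).comp b.equivFun.surjective
  refine ⟨AddMonoidHom.toMultiplicativeRight g.toAddMonoidHom, ?_⟩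
  intro y
  obtain ⟨a, ha⟩ := hg y.toAdd
  exact ⟨a.toMul, congrArg Multiplicative.ofAdd ha⟩

/-- the commutator quotient of a 2-group of order divisible by 8 has order at least 4 -/
theorem index_comm {P : Type u} [Group P] [Finite P] (hP : IsPGroup 2 P) (h8 : 8 ∣ Nat.card P) :
    ¬ (commutator P).index ≤ 2 := by
  intro h
  have : Fact (Nat.Prime 2) := ⟨Nat.prime_two⟩
  -- the quotient is cyclic
  have hcy : IsCyclic (P ⧸ commutator P) := by
    have h1 : Nat.card (P ⧸ commutator P) ≤ 2 := by rw [← Subgroup.index_eq_card]; exact h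
    have h0 : 0 < Nat.card (P ⧸ commutator P) := Nat.card_pos
    rcases (by omega : Nat.card (P ⧸ commutator P) = 1 ∨ Nat.card (P ⧸ commutator P) = 2) with h2 | h2
    · have : Subsingleton (P ⧸ commutator P) := (Nat.card_eq_one_iff_unique.1 h2).1
      infer_instance
    · exact isCyclic_of_prime_card h2
  obtain ⟨g, hg⟩ := hcy.exists_generator
  obtain ⟨x, rfl⟩ := QuotientGroup.mk_surjective g
  have htop : Subgroup.zpowers x = ⊤ := by
    by_contra hne
    obtain ⟨M, hM, hxM⟩ := (eq_top_or_exists_le_coatom (Subgroup.zpowers x)).resolve_left hne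
    have hc := Lib.FrattiniBasic.commutator_le_of_isCoatom hP hM
    apply hM.1
    rw [eq_top_iff]
    intro y _
    obtain ⟨k, hk⟩ := Subgroup.mem_zpowers_iff.1 (hg (QuotientGroup.mk y))
    rw [← QuotientGroup.mk_zpow, QuotientGroup.eq] at hk
    have h3 := M.mul_mem (M.zpow_mem (hxM (Subgroup.mem_zpowers x)) k) (hc hk)
    rwa [mul_inv_cancel_left] at h3
  have hcomm : ∀ a b : P, a * b = b * a := by
    intro a b
    obtain ⟨i, rfl⟩ := Subgroup.mem_zpowers_iff.1 (htop ▸ Subgroup.mem_top a : a ∈ Subgroup.zpowers x)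
    obtain ⟨j, rfl⟩ := Subgroup.mem_zpowers_iff.1 (htop ▸ Subgroup.mem_top b : b ∈ Subgroup.zpowers x)
    rw [← zpow_add, ← zpow_add, add_comm]
  have hbot : commutator P = ⊥ := by
    rw [commutator_def, Subgroup.commutator_eq_bot_iff_le_centralizer]
    intro a _
    rw [Subgroup.mem_centralizer_iff]
    intro b _
    exact hcomm b a
  rw [hbot, Subgroup.index_bot] at h
  have := Nat.le_of_dvd Nat.card_pos h8
  omega

/-- `|P : P'| ≥ 8` -/
theorem eight_le_index {P : Type u} [Group P] [Finite P] (hP : IsPGroup 2 P) (hsq : ∀ x : P, x ^ 2 ∈ commutator P)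
    (E : Subgroup P) (hE : Nat.card E = 8) (hE2 : ∀ x ∈ E, x ^ 2 = 1) : 2 ^ 3 ≤ (commutator P).index := by
  have : Fact (Nat.Prime 2) := ⟨Nat.prime_two⟩
  obtain ⟨n, hn⟩ := IsPGroup.iff_card.1 hP
  have h8 : 8 ∣ Nat.card P := by
    rw [← hE]
    exact Subgroup.card_subgroup_dvd_card E
  have hn3 : 3 ≤ n := by
    rw [hn] at h8
    exact (Nat.pow_dvd_pow_iff_le_right (x := 2) (by norm_num)).1 h8
  have hi : (commutator P).index ∣ 2 ^ n := by
    rw [← hn]
    exact Subgroup.index_dvd_card _
  obtain ⟨k, hk, hk'⟩ := (Nat.dvd_prime_pow Nat.prime_two).1 hi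
  have h01 := index_comm hP h8
  rw [hk']
  apply Nat.pow_le_pow_right (by norm_num)
  by_contra hlt
  have hk2 : k = 2 := by
    rw [hk'] at h01
    interval_cases k
    · simp at h01
    · simp at h01
    · rfl
  subst hk2
  have hc4 : Nat.card (P ⧸ commutator P) = 4 := by
    rw [← Subgroup.index_eq_card, hk']
    norm_num
  have hkl : IsKleinFour (P ⧸ commutator P) := by
    refine ⟨hc4, ?_⟩
    have : Nontrivial (P ⧸ commutator P) := by
      rw [← Finite.one_lt_card_iff_nontrivial, hc4]
      norm_num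
    refine Nat.dvd_antisymm (Monoid.exponent_dvd_of_forall_pow_eq_one fun g => ?_) ?_
    · obtain ⟨x, rfl⟩ := QuotientGroup.mk_surjective g
      rw [← QuotientGroup.mk_pow, QuotientGroup.eq_one_iff]
      exact hsq x
    · obtain ⟨g, hg⟩ := exists_ne (1 : P ⧸ commutator P)
      have h1 : orderOf g = 2 := by
        apply orderOf_eq_prime _ hg
        obtain ⟨x, rfl⟩ := QuotientGroup.mk_surjective g
        rw [← QuotientGroup.mk_pow, QuotientGroup.eq_one_iff]
        exact hsq x
      rw [← h1]
      exact Monoid.order_dvd_exponent g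
  have hcl := (S0115.result n hn3 hn).2 hkl
  obtain ⟨C, hC, hCi⟩ := S0113.result n hn3 hn hcl
  -- `E ⊓ C` is cyclic of exponent 2 and has order at least 4
  have h1 : C.relIndex E ∣ 2 := by
    rw [← hCi]
    have hCn : C.Normal := Subgroup.normal_of_index_eq_two hCi
    exact Subgroup.relIndex_dvd_index_of_normal C E
  have h2 : Nat.card (C.subgroupOf E) * C.relIndex E = 8 := by
    rw [← hE]
    exact Subgroup.card_mul_index (C.subgroupOf E)
  have h3 : 4 ≤ Nat.card (C.subgroupOf E) := by
    have := Nat.le_of_dvd (by norm_num) h1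
    by_contra h4
    have : Nat.card (C.subgroupOf E) * C.relIndex E ≤ 3 * 2 := Nat.mul_le_mul (by omega) this
    omega
  have hcyc : IsCyclic (C.subgroupOf E) := by
    let f : C.subgroupOf E →* C := 
      { toFun := fun x => ⟨x.1.1, Subgroup.mem_subgroupOf.1 x.2⟩
        map_one' := rfl
        map_mul' := fun _ _ => rfl }
    have hf : Function.Injective f := by
      intro a b hab
      have h0 : (f a : P) = (f b : P) := by rw [hab]
      exact Subtype.ext (Subtype.ext h0)
    exact isCyclic_of_injective f hf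
  obtain ⟨g, hg⟩ := hcyc.exists_generator
  have h5 : Nat.card (C.subgroupOf E) = orderOf g := (orderOf_eq_card_of_forall_mem_zpowers hg).symm
  have h6 : orderOf g ∣ 2 := by
    apply orderOf_dvd_of_pow_eq_one
    apply Subtype.ext
    apply Subtype.ext
    exact hE2 g.1.1 g.1.2
  have := Nat.le_of_dvd (by norm_num) h6
  omega

/-- three generators for a 2-group -/
theorem rk_of_elem {P : Type u} [Group P] [Finite P] (hP : IsPGroup 2 P) (hsq : ∀ x : P, x ^ 2 ∈ commutator P)
    (E : Subgroup P) (hE : Nat.card E = 8) (hE2 : ∀ x ∈ E, x ^ 2 = 1) : Rk 3 P := by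
  have h := eight_le_index hP hsq E hE hE2
  have h2 : ∀ x : Abelianization P, x ^ 2 = 1 := by
    intro g
    obtain ⟨x, rfl⟩ : ∃ x : P, Abelianization.of x = g := QuotientGroup.mk_surjective g
    rw [← map_pow]
    exact (QuotientGroup.eq_one_iff _).2 (hsq x)
  obtain ⟨f, hf⟩ := rk_of_exp (A := Abelianization P) h2 (n := 3) (by
    change _ ≤ Nat.card (P ⧸ commutator P)
    rw [← Subgroup.index_eq_card]
    exact h)
  exact ⟨f.comp Abelianization.of, hf.comp (QuotientGroup.mk_surjective)⟩

/-- `D3` of a quotient: the Sylow 2-subgroups of `G` have elementary abelian commutator quotients and the quotient `Y`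
has an elementary abelian subgroup of order 8 -/
theorem d3_quot {G : Type u} {Y : Type v} [Group G] [Finite G] [Group Y] (f : G →* Y) (hf : Function.Surjective f)
    (h : ∀ (P : Sylow 2 G) (x : (P : Subgroup G)), x ^ 2 ∈ commutator (P : Subgroup G))
    (E : Subgroup Y) (hE : Nat.card E = 8) (hE2 : ∀ x ∈ E, x ^ 2 = 1) : D3 Y := by
  have : Fact (Nat.Prime 2) := ⟨Nat.prime_two⟩
  have : Finite Y := Finite.of_surjective f hf
  -- a Sylow subgroup containing `E`
  obtain ⟨Q0, hQ0⟩ := (IsPGroup.of_card (p := 2) (n := 3) (by rw [hE]; norm_num) : IsPGroup 2 E).exists_le_sylow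
  have key : Rk 3 Q0 := by
    obtain ⟨P, hP⟩ := Sylow.mapSurjective_surjective hf 2 Q0
    have hmap : (P : Subgroup G).map f = (Q0 : Subgroup Y) := by rw [← hP]; rfl
    refine rk_of_elem Q0.2 ?_ (E.subgroupOf Q0) ?_ ?_
    · rintro ⟨y, hy⟩
      rw [← hmap] at hy
      obtain ⟨x, hx, rfl⟩ := hy
      have h1 := h P ⟨x, hx⟩
      let f' : (P : Subgroup G) →* (Q0 : Subgroup Y) :=
        (f.comp (P : Subgroup G).subtype).codRestrict (Q0 : Subgroup Y) (fun x => by
          rw [← hmap]; exact Subgroup.mem_map_of_mem f x.2)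
      have h2 : f' (⟨x, hx⟩ ^ 2) ∈ (commutator (P : Subgroup G)).map f' := Subgroup.mem_map_of_mem f' h1
      rw [map_pow] at h2
      have h3 : (commutator (P : Subgroup G)).map f' ≤ commutator (Q0 : Subgroup Y) := by
        rw [commutator_def, Subgroup.map_commutator, commutator_def]
        exact Subgroup.commutator_mono le_top le_top
      exact h3 h2
    · rw [Nat.card_congr (Subgroup.subgroupOfEquivOfLe hQ0).toEquiv, hE]
    · intro x hx
      apply Subtype.ext
      exact hE2 x.1 hx
  intro Q
  obtain ⟨g, hg⟩ := key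
  let e : Q ≃* Q0 := Sylow.equiv Q Q0
  exact ⟨g.comp e.toMonoidHom, hg.comp e.surjective⟩

end Cfsg.Agent.H269.K547
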