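import Cfsg.Agent.S4624
import Cfsg.Agent.H269.K547.Tool
import Cfsg.Agent.H269.K547.PSpElem

/-!
# S4547, row QO-PSP: `D3 (PSp m F)` for `m ≥ 2` and `|F|` odd
-/

set_option autoImplicit false

open Cfsg Matrix

namespace Cfsg.Agent.H269.K547

open Cfsg.Agent.H821.K547

universe u v

/-- the Sylow 2-subgroups of `PSp_2m(F)`, `m ≥ 2`, `|F|` odd, need at least three generators -/
theorem d3_psp {F : Type u} [Field F] [Fintype F] (hF : Odd (Fintype.card F)) (m : ℕ) (hm : 2 ≤ m) : D3 (PSp m F) := by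
  obtain ⟨E, hE, hE2⟩ := psp_elem_of_odd (m := m) hF hm
  exact d3_quot (QuotientGroup.mk' (Subgroup.center (symplecticGroup (Fin m) F)))
    (QuotientGroup.mk'_surjective _) (fun P x => S4624.result hF m (by omega) P x) E hE
    (fun x hx => by rw [pow_two]; exact hE2 x hx)

/-- transport to a group isomorphic to `PSp_2m(F)` -/
theorem d3_of_equiv {S : Type u} {Y : Type v} [Group S] [Finite S] [Group Y] (e : S ≃* Y) (h : D3 Y) : D3 S := by
  intro Q
  have : Fact (Nat.Prime 2) := ⟨Nat.prime_two⟩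
  obtain ⟨f, hf⟩ := h (Q.mapSurjective (f := e.toMonoidHom) e.surjective)
  let e' : (Q : Subgroup S) ≃* (Q.mapSurjective (f := e.toMonoidHom) e.surjective : Subgroup Y) :=
    (Q : Subgroup S).equivMapOfInjective e.toMonoidHom e.injective
  exact ⟨f.comp e'.toMonoidHom, hf.comp e'.surjective⟩

theorem d3_of_psp {S : Type u} [Group S] {F : Type v} [Field F] [Fintype F] (hF : Odd (Fintype.card F)) (m : ℕ)
    (hm : 2 ≤ m) (e : S ≃* PSp m F) : D3 S := by
  have : Finite S := Finite.of_equiv _ e.symm.toEquiv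
  exact d3_of_equiv e (d3_psp hF m hm)

end Cfsg.Agent.H269.K547
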